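import Groth.Agent.Lib.Helper3.GenLift.Alg
import Groth.Agent.Lib.Helper1.SchFlat
import Groth.Agent.Lib.Helper2.SuppTensor

set_option autoImplicit false
set_option linter.style.haveILetI false
universe u
open CategoryTheory Limits AlgebraicGeometry TopologicalSpace Opposite

namespace Groth.Agent.H3.GenLift

open Groth.Agent.LD.QC Groth.Agent.H1.SchFlat

/-- Generizations lift along a morphism for the support of a finite type quasi-coherent module
flat over the base at the point. -/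
theorem exists_generization_of_flat {X Y : Scheme.{u}} (f : X ⟶ Y) (F : X.Modules)
    [F.IsQuasicoherent] (hF : F.IsFiniteType) (x : X)
    (hfl : FlatMod.IsFlatOverAt f F x) (hx : ¬ Subsingleton (F.presheaf.stalk x))
    (y' : Y) (hy' : y' ⤳ f x) :
    ∃ x' : X, x' ⤳ x ∧ ¬ Subsingleton (F.presheaf.stalk x') ∧ f x' = y' := by
  obtain ⟨U, V, hU, hV, hxU, e⟩ := exists_affine_nhds_le_preimage f x
  have hy'V : y' ∈ V := hy'.mem_open V.2 (e hxU)
  letI := algΓ f e
  letI := sectionsModuleOver f F e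
  haveI := isScalarTower_sections f F e
  haveI : Module.Finite Γ(X, U) Γ(F, U) := finite_sections_of_isFiniteType F hF hU
  haveI hflat := (isFlatOverAt_iff_flat_localizedModule f F hU hV e x hxU).mp hfl
  haveI hnt : Nontrivial (LocalizedModule (hU.primeIdealOf ⟨x, hxU⟩).asIdeal.primeCompl Γ(F, U)) := by
    have := (mem_support_iff_not_subsingleton_stalk F hU x hxU).mpr hx
    rwa [Module.mem_support_iff] at this
  have hq : (hV.primeIdealOf ⟨y', hy'V⟩).asIdeal ≤
      (hU.primeIdealOf ⟨x, hxU⟩).asIdeal.comap (algebraMap Γ(Y, V) Γ(X, U)) := by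
    have h1 := congr($(IsAffineOpen.comap_primeIdealOf_appLE V hV U hU e hxU).1)
    change (hU.primeIdealOf ⟨x, hxU⟩).asIdeal.comap (f.appLE V U e).hom = _ at h1
    change _ ≤ (hU.primeIdealOf ⟨x, hxU⟩).asIdeal.comap (f.appLE V U e).hom
    rw [h1]
    change hV.primeIdealOf ⟨y', hy'V⟩ ≤ hV.primeIdealOf ⟨f x, e hxU⟩
    rw [PrimeSpectrum.le_iff_specializes]
    refine (hV.fromSpec.isOpenEmbedding.toIsInducing.specializes_iff
      (x := hV.primeIdealOf ⟨y', hy'V⟩) (y := hV.primeIdealOf ⟨f x, e hxU⟩)).mp ?_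
    rw [hV.fromSpec_primeIdealOf, hV.fromSpec_primeIdealOf]
    exact hy'
  obtain ⟨P, hP, hPle, hann, hPq⟩ := exists_prime_le_of_flat (A := Γ(Y, V)) (B := Γ(X, U))
    (M := Γ(F, U)) (hU.primeIdealOf ⟨x, hxU⟩).asIdeal (hV.primeIdealOf ⟨y', hy'V⟩).asIdeal hq
  let P' : PrimeSpectrum Γ(X, U) := ⟨P, hP⟩
  have hx'U : hU.fromSpec P' ∈ U := by
    rw [← SetLike.mem_coe, ← hU.range_fromSpec]
    exact Set.mem_range_self P'
  have hP' : hU.primeIdealOf ⟨hU.fromSpec P', hx'U⟩ = P' :=
    hU.fromSpec.isOpenEmbedding.injective (hU.fromSpec_primeIdealOf ⟨hU.fromSpec P', hx'U⟩)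
  refine ⟨hU.fromSpec P', ?_, ?_, ?_⟩
  · have h1 : P' ⤳ hU.primeIdealOf ⟨x, hxU⟩ := (PrimeSpectrum.le_iff_specializes _ _).mp hPle
    have h2 := h1.map hU.fromSpec.continuous
    rwa [hU.fromSpec_primeIdealOf] at h2
  · rw [← mem_support_iff_not_subsingleton_stalk F hU _ hx'U, hP',
      Module.mem_support_iff_of_finite]
    exact hann
  · have h1 := IsAffineOpen.comap_primeIdealOf_appLE V hV U hU e hx'U
    rw [hP'] at h1
    have h2 : hV.primeIdealOf ⟨f (hU.fromSpec P'), e hx'U⟩ = hV.primeIdealOf ⟨y', hy'V⟩ := by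
      rw [← h1]
      exact PrimeSpectrum.ext hPq
    have h3 := congrArg (fun z => hV.fromSpec z) h2
    simpa only [hV.fromSpec_primeIdealOf] using h3

end Groth.Agent.H3.GenLift
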