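import Mathlib

open TensorProduct

namespace Groth.Agent.H3.GenLift

theorem map_smul_mem {A B N : Type*} [CommRing A] [CommRing B] [Algebra A B]
    [AddCommGroup N] [Module A N] [Module B N] [IsScalarTower A B N] (q : Ideal A)
    (j : B) (hj : j ∈ q.map (algebraMap A B)) (n : N) : j • n ∈ (q • ⊤ : Submodule A N) := by
  revert n
  refine Submodule.span_induction (p := fun j _ => ∀ n : N, j • n ∈ (q • ⊤ : Submodule A N))
    ?_ ?_ ?_ ?_ hj
  · rintro _ ⟨a, ha, rfl⟩ n
    rw [algebraMap_smul]
    exact Submodule.smul_mem_smul ha Submodule.mem_top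
  · intro n
    rw [zero_smul]
    exact zero_mem _
  · intro x y _ _ hx hy n
    rw [add_smul]
    exact add_mem (hx n) (hy n)
  · intro b x _ hx n
    rw [smul_eq_mul, mul_comm, mul_smul]
    exact hx _

theorem tmul_eq_zero_of_mem {A N : Type*} [CommRing A] [AddCommGroup N] [Module A N] (q : Ideal A)
    (x : A ⧸ q) (n : N) (hn : n ∈ (q • ⊤ : Submodule A N)) : x ⊗ₜ[A] n = 0 := by
  refine Submodule.smul_induction_on hn (fun a ha n' _ => ?_) (fun y z hy hz => ?_)
  · rw [← TensorProduct.smul_tmul]
    have : a • x = 0 := by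
      obtain ⟨x, rfl⟩ := Ideal.Quotient.mk_surjective x
      change Ideal.Quotient.mk q (a * x) = 0
      rw [Ideal.Quotient.eq_zero_iff_mem]
      exact Ideal.mul_mem_right _ _ ha
    rw [this, TensorProduct.zero_tmul]
  · rw [TensorProduct.tmul_add, hy, hz, add_zero]

theorem exists_prime_le_of_flat {A B M : Type*} [CommRing A] [CommRing B] [Algebra A B]
    [AddCommGroup M] [Module A M] [Module B M] [IsScalarTower A B M] [Module.Finite B M]
    (P₀ : Ideal B) [P₀.IsPrime]
    [Module.Flat A (LocalizedModule P₀.primeCompl M)]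
    [Nontrivial (LocalizedModule P₀.primeCompl M)]
    (q : Ideal A) [q.IsPrime] (hq : q ≤ P₀.comap (algebraMap A B)) :
    ∃ P : Ideal B, P.IsPrime ∧ P ≤ P₀ ∧ Module.annihilator B M ≤ P ∧
      P.comap (algebraMap A B) = q := by
  classical
  -- Step 1: q • ⊤ ≠ ⊤ in N
  have h1 : (q • ⊤ : Submodule A (LocalizedModule P₀.primeCompl M)) ≠ ⊤ := by
    intro htop
    have h2 : (⊤ : Submodule (Localization.AtPrime P₀) (LocalizedModule P₀.primeCompl M)) ≤
        IsLocalRing.maximalIdeal (Localization.AtPrime P₀) •
          (⊤ : Submodule (Localization.AtPrime P₀) (LocalizedModule P₀.primeCompl M)) := by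
      intro n _
      have hn : n ∈ (q • ⊤ : Submodule A (LocalizedModule P₀.primeCompl M)) :=
        by rw [htop]; exact Submodule.mem_top
      refine Submodule.smul_induction_on hn (fun a ha n' _ => ?_) (fun x y hx hy => add_mem hx hy)
      have : a • n' = algebraMap B (Localization.AtPrime P₀) (algebraMap A B a) • n' := by
        rw [algebraMap_smul, algebraMap_smul]
      rw [this]
      refine Submodule.smul_mem_smul ?_ Submodule.mem_top
      have h3 : algebraMap A B a ∈ P₀ := hq ha
      rw [← IsLocalization.AtPrime.under_maximalIdeal (Localization.AtPrime P₀) P₀] at h3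
      exact h3
    have h3 := Submodule.eq_bot_of_le_smul_of_le_jacobson_bot
      (IsLocalRing.maximalIdeal (Localization.AtPrime P₀)) ⊤ Module.Finite.fg_top h2
      (IsLocalRing.maximalIdeal_le_jacobson _)
    exact top_ne_bot h3
  -- Step 2: T nontrivial
  have hT : Nontrivial ((A ⧸ q) ⊗[A] (LocalizedModule P₀.primeCompl M)) := by
    have e := TensorProduct.quotTensorEquivQuotSMul (LocalizedModule P₀.primeCompl M) q
    rw [e.toEquiv.nontrivial_congr]
    exact Submodule.Quotient.nontrivial_iff.mpr h1
  -- Step 3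
  have hdisj : Disjoint ((q.map (algebraMap A B) ⊔ Module.annihilator B M : Ideal B) : Set B)
      ((q.primeCompl.map (algebraMap A B : A →* B) ⊔ P₀.primeCompl : Submonoid B) : Set B) := by
    rw [Set.disjoint_left]
    intro b hbJ hbS
    obtain ⟨b1, hb1, s, hs, rfl⟩ := Submonoid.mem_sup.mp hbS
    obtain ⟨a, ha, rfl⟩ := hb1
    obtain ⟨j1, hj1, c, hc, hsum⟩ := Submodule.mem_sup.mp hbJ
    have key : ∀ n : LocalizedModule P₀.primeCompl M,
        a • n ∈ (q • ⊤ : Submodule A (LocalizedModule P₀.primeCompl M)) := by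
      intro n
      have hu := IsLocalizedModule.map_units (S := P₀.primeCompl)
        (LocalizedModule.mkLinearMap P₀.primeCompl M) ⟨s, hs⟩
      obtain ⟨n', rfl⟩ := ((Module.End.isUnit_iff _).mp hu).surjective n
      rw [Module.algebraMap_end_apply]
      have hc0 : c • n' = 0 := by
        induction n' using LocalizedModule.induction_on with
        | h m t =>
          rw [LocalizedModule.smul'_mk, Module.mem_annihilator.mp hc m, LocalizedModule.zero_mk]
      have : a • (s : B) • n' = j1 • n' := by
        rw [← algebraMap_smul B a, ← mul_smul]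
        change ((algebraMap A B : A →* B) a * s) • n' = _
        rw [← hsum, add_smul, hc0, add_zero]
      rw [this]
      exact map_smul_mem q j1 hj1 n'
    have hzero : ∀ t : (A ⧸ q) ⊗[A] (LocalizedModule P₀.primeCompl M),
        (Ideal.Quotient.mk q a) • t = 0 := by
      intro t
      induction t using TensorProduct.induction_on with
      | zero => rw [smul_zero]
      | tmul x n =>
        rw [TensorProduct.smul_tmul', smul_eq_mul]
        have : Ideal.Quotient.mk q a * x = a • x := by
          obtain ⟨x, rfl⟩ := Ideal.Quotient.mk_surjective x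
          rfl
        rw [this, TensorProduct.smul_tmul]
        exact tmul_eq_zero_of_mem q x _ (key n)
      | add x y hx hy => rw [smul_add, hx, hy, add_zero]
    have hreg : IsSMulRegular ((A ⧸ q) ⊗[A] (LocalizedModule P₀.primeCompl M))
        (Ideal.Quotient.mk q a) :=
      Module.Flat.isSMulRegular_of_nonZeroDivisors (R := A ⧸ q)
        (M := (A ⧸ q) ⊗[A] (LocalizedModule P₀.primeCompl M)) (mem_nonZeroDivisors_of_ne_zero
        (show Ideal.Quotient.mk q a ≠ 0 by rw [Ne, Ideal.Quotient.eq_zero_iff_mem]; exact ha))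
    obtain ⟨t1, t2, ht⟩ := hT.exists_pair_ne
    exact ht (hreg (by simp only [hzero]))
  obtain ⟨P, hP, hJP, hPS⟩ := Ideal.exists_le_prime_disjoint _ _ hdisj
  refine ⟨P, hP, ?_, le_sup_right.trans hJP, ?_⟩
  · intro b hb
    by_contra hb'
    exact Set.disjoint_left.mp hPS hb (Submonoid.mem_sup_right hb')
  · apply le_antisymm
    · intro a ha
      by_contra ha'
      exact Set.disjoint_left.mp hPS ha (Submonoid.mem_sup_left ⟨a, ha', rfl⟩)
    · intro a ha
      exact hJP (Submodule.mem_sup_left (Ideal.mem_map_of_mem _ ha))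

end Groth.Agent.H3.GenLift
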