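import Groth.Agent.Lib.Helper3.GenLift.Sch
import Groth.Prelude.Def_FDesc
import Groth.Prelude.Def_CohB1

set_option autoImplicit false
set_option linter.style.haveILetI false
universe u
open CategoryTheory Limits AlgebraicGeometry TopologicalSpace Opposite

namespace Groth.Agent.H3.GenLift

open Groth.Agent.LD.QC Groth.Agent.H1.SchFlat

theorem maximal_support_tensor_iff {X Y : Scheme.{u}} (f : X ⟶ Y) (F : X.Modules) (hF : Coh.IsCoh F)
    (hfl : FlatMod.IsFlatOver f F) (E : Y.Modules) (hE : Coh.IsCoh E) (x : X) :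
    (x ∈ CohB1.support (CohB1.tensorMod ((Scheme.Modules.pullback f).obj E) F) ∧
        ∀ z ∈ CohB1.support (CohB1.tensorMod ((Scheme.Modules.pullback f).obj E) F), z ⤳ x → z = x) ↔
      ((f x ∈ CohB1.support E ∧ ∀ w ∈ CohB1.support E, w ⤳ f x → w = f x) ∧
        (f.asFiber x ∈ CohB1.support ((Scheme.Modules.pullback (f.fiberι (f x))).obj F) ∧
          ∀ z ∈ CohB1.support ((Scheme.Modules.pullback (f.fiberι (f x))).obj F), z ⤳ f.asFiber x → z = f.asFiber x)) := by
  haveI : F.IsQuasicoherent := hF.1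
  haveI : E.IsQuasicoherent := hE.1
  haveI := qc_pullback f E
  have hs1 : ∀ z : X, z ∈ CohB1.support (CohB1.tensorMod ((Scheme.Modules.pullback f).obj E) F) ↔
      f z ∈ CohB1.support E ∧ z ∈ CohB1.support F := by
    intro z
    change ¬ Subsingleton _ ↔ _
    rw [Groth.Agent.H2.SuppTensor.support_tensorMod _ _ (isFiniteType_pullback f E hE.2) hF.2 z,
      support_pullback f E hE.2 z]
    rfl
  have hs2 : ∀ z : f.fiber (f x),
      z ∈ CohB1.support ((Scheme.Modules.pullback (f.fiberι (f x))).obj F) ↔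
        f.fiberι (f x) z ∈ CohB1.support F := by
    intro z
    change ¬ Subsingleton _ ↔ _
    rw [support_pullback (f.fiberι (f x)) F hF.2 z]
    rfl
  have hfib : ∀ z : f.fiber (f x), f (f.fiberι (f x) z) = f x := by
    intro z
    have : f.fiberι (f x) z ∈ Set.range (f.fiberι (f x)) := Set.mem_range_self z
    rw [f.range_fiberι] at this
    exact this
  have hemb := (f.fiberι (f x)).isEmbedding
  simp only [hs1, hs2, f.fiberι_asFiber]
  constructor
  · rintro ⟨⟨hxE, hxF⟩, hmax⟩
    refine ⟨⟨hxE, ?_⟩, hxF, ?_⟩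
    · intro w hw hwx
      obtain ⟨x', hx'x, hx'F, rfl⟩ := exists_generization_of_flat f F hF.2 x (hfl x) hxF w hwx
      rw [hmax x' ⟨hw, hx'F⟩ hx'x]
    · intro z hz hzx
      apply hemb.injective
      rw [f.fiberι_asFiber]
      refine hmax _ ⟨?_, hz⟩ ?_
      · rw [hfib]; exact hxE
      · have := hzx.map (f.fiberι (f x)).continuous
        rwa [f.fiberι_asFiber] at this
  · rintro ⟨⟨hxE, hmaxE⟩, hxF, hmaxF⟩
    refine ⟨⟨hxE, hxF⟩, ?_⟩
    rintro z ⟨hzE, hzF⟩ hzx
    have h1 : f z = f x := hmaxE _ hzE (hzx.map f.continuous)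
    obtain ⟨z', rfl⟩ : z ∈ Set.range (f.fiberι (f x)) := by
      rw [f.range_fiberι]; exact h1
    have h2 : z' = f.asFiber x := by
      refine hmaxF z' hzF ?_
      rw [← hemb.toIsInducing.specializes_iff, f.fiberι_asFiber]
      exact hzx
    rw [h2, f.fiberι_asFiber]

end Groth.Agent.H3.GenLift
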